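import Groth.Agent.AVEmbedLib.Tg
import Groth.Agent.GradedCechLib.Chart

/-!
Homogeneous coordinates of points of a closed subscheme of projective space, and their first order variations.
-/

set_option autoImplicit false
set_option maxHeartbeats 1000000
set_option backward.isDefEq.respectTransparency false
set_option linter.style.haveILetI false

noncomputable section

universe u

open CategoryTheory CategoryTheory.Limits MonoidalCategory CartesianMonoidalCategory MonObj AlgebraicGeometry TopologicalSpace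
open IsLocalRing AVAmpleLib GradedCechLib
open MvPolynomial (C)

namespace AVEmbedLib

variable {k : Type u} [Field k] {n g : ℕ} {A : Over (Spec (CommRingCat.of k))}
  (f : A.left ⟶ CohB1.ProjSpace n k)

/-- The charts. -/
abbrev chartU (i : Fin (n + 1)) : A.left.Opens := f ⁻¹ᵁ QCohLib.stdOpen n k i

theorem isAffineOpen_stdOpen (i : Fin (n + 1)) : IsAffineOpen (QCohLib.stdOpen n k i) :=
  Proj.isAffineOpen_basicOpen _ _ (X_mem n k i) one_pos

theorem isAffineOpen_chartU [IsAffineHom f] (i : Fin (n + 1)) : IsAffineOpen (chartU f i) :=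
  (isAffineOpen_stdOpen i).preimage f

/-- The coordinates on a chart. -/
def α (i : Fin (n + 1)) : GradedCechLib.Poly n k →+* Γ(A.left, chartU f i) :=
  (f.app (QCohLib.stdOpen n k i)).hom.comp (deh n k i)

theorem α_surjective [IsClosedImmersion f] (i : Fin (n + 1)) : Function.Surjective (α f i) :=
  (f.app_surjective (QCohLib.stdOpen n k i) (isAffineOpen_stdOpen i)).comp (deh_surjective n k i)

theorem α_self (i : Fin (n + 1)) : α f i (MvPolynomial.X i) = 1 := by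
  simp [α, deh_X_self]

theorem α_C (hf : f ≫ CohB1.ProjSpace.toSpec n k = A.hom) (i : Fin (n + 1)) (r : k) :
    α f i (C r) = A.left.presheaf.map (homOfLE (le_top : chartU f i ≤ ⊤)).op (Coh.toGlobal A.hom r) := by
  simp only [α, RingHom.comp_apply, deh_C, cstOn, Coh.toGlobal, ← hf, Scheme.Hom.comp_appTop, CommRingCat.hom_comp]
  exact ConcreteCategory.congr_hom (f.naturality (homOfLE (le_top : QCohLib.stdOpen n k i ≤ ⊤)).op) _

section Ev

variable {B B' : Type u} [CommRing B] [Algebra k B] [CommRing B'] [Algebra k B']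

/-- Coordinates of a point in a chart. -/
def ev (σ : algSpec k B ⟶ A) {U : A.left.Opens} (h : ⊤ ≤ σ.left ⁻¹ᵁ U) : Γ(A.left, U) →+* B :=
  (σ.left.appLE U ⊤ h ≫ (Scheme.ΓSpecIso (CommRingCat.of B)).hom).hom

theorem SpecMap_ev (σ : algSpec k B ⟶ A) {U : A.left.Opens} (hU : IsAffineOpen U) (h : ⊤ ≤ σ.left ⁻¹ᵁ U) :
    Spec.map (CommRingCat.ofHom (ev σ h)) ≫ hU.fromSpec = σ.left := by
  let σ' : Spec (CommRingCat.of B) ⟶ A.left := σ.left
  have h' : ⊤ ≤ σ' ⁻¹ᵁ U := h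
  show Spec.map (σ'.appLE U ⊤ h' ≫ (Scheme.ΓSpecIso (CommRingCat.of B)).hom) ≫ hU.fromSpec = σ'
  rw [Spec.map_comp, Category.assoc, IsAffineOpen.SpecMap_appLE_fromSpec σ' hU (isAffineOpen_top _),
    IsAffineOpen.fromSpec_top, Scheme.isoSpec_Spec_inv, ← Spec.map_comp_assoc, Iso.inv_hom_id, Spec.map_id,
    Category.id_comp]

theorem ev_pre (φ : B →ₐ[k] B') (σ : algSpec k B ⟶ A) {U : A.left.Opens} (h : ⊤ ≤ σ.left ⁻¹ᵁ U)
    (h' : ⊤ ≤ (algSpecMap φ ≫ σ).left ⁻¹ᵁ U) (a : Γ(A.left, U)) :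
    ev (algSpecMap φ ≫ σ) h' a = φ (ev σ h a) := by
  show ((Spec.map (CommRingCat.ofHom φ.toRingHom) ≫ σ.left).appLE U ⊤ h' ≫ _).hom a = _
  rw [← Scheme.Hom.appLE_comp_appLE (Spec.map (CommRingCat.ofHom φ.toRingHom)) σ.left U ⊤ ⊤ h (by simp)]
  have he : (Spec.map (CommRingCat.ofHom φ.toRingHom)).appLE ⊤ ⊤ (by simp) ≫ (Scheme.ΓSpecIso (CommRingCat.of B')).hom =
      (Scheme.ΓSpecIso (CommRingCat.of B)).hom ≫ CommRingCat.ofHom φ.toRingHom := by
    rw [← Scheme.ΓSpecIso_naturality]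
    congr 1
  exact ConcreteCategory.congr_hom
    ((Category.assoc _ _ _).trans ((congrArg (σ.left.appLE U ⊤ h ≫ ·) he).trans (Category.assoc _ _ _).symm)) a

theorem ev_global (σ : algSpec k B ⟶ A) {U : A.left.Opens} (h : ⊤ ≤ σ.left ⁻¹ᵁ U) (r : k) :
    ev σ h (A.left.presheaf.map (homOfLE (le_top : U ≤ ⊤)).op (Coh.toGlobal A.hom r)) = algebraMap k B r := by
  have h2 : A.hom.appTop ≫ A.left.presheaf.map (homOfLE (le_top : U ≤ ⊤)).op ≫ σ.left.appLE U ⊤ h =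
      (Spec.map (CommRingCat.ofHom (algebraMap k B))).appTop := by
    rw [Scheme.Hom.map_appLE, ← show σ.left ≫ A.hom = Spec.map (CommRingCat.ofHom (algebraMap k B)) from Over.w σ,
      Scheme.Hom.comp_appTop]
    congr 1
  have h3 : (Scheme.ΓSpecIso (CommRingCat.of k)).inv ≫ A.hom.appTop ≫
      A.left.presheaf.map (homOfLE (le_top : U ≤ ⊤)).op ≫ σ.left.appLE U ⊤ h ≫
      (Scheme.ΓSpecIso (CommRingCat.of B)).hom = CommRingCat.ofHom (algebraMap k B) := by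
    rw [reassoc_of% h2, Scheme.ΓSpecIso_naturality, Iso.inv_hom_id_assoc]
  exact ConcreteCategory.congr_hom h3 r

theorem ev_α_C (hf : f ≫ CohB1.ProjSpace.toSpec n k = A.hom) (σ : algSpec k B ⟶ A) (i : Fin (n + 1))
    (h : ⊤ ≤ σ.left ⁻¹ᵁ chartU f i) (r : k) : ev σ h (α f i (C r)) = algebraMap k B r := by
  rw [α_C f hf, ev_global]

theorem ev_α (σ : algSpec k B ⟶ A) (i : Fin (n + 1)) (h : ⊤ ≤ σ.left ⁻¹ᵁ chartU f i) (p : GradedCechLib.Poly n k) :
    ev σ h (α f i p) = (Scheme.ΓSpecIso (CommRingCat.of B)).hom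
      ((σ.left ≫ f).appLE (QCohLib.stdOpen n k i) ⊤ h (deh n k i p)) := by
  rw [Scheme.Hom.comp_appLE]
  rfl

theorem ev_change (σ : algSpec k B ⟶ A) (i j l : Fin (n + 1)) (hi : ⊤ ≤ σ.left ⁻¹ᵁ chartU f i)
    (hj : ⊤ ≤ σ.left ⁻¹ᵁ chartU f j) :
    ev σ hi (α f i (MvPolynomial.X l)) =
      ev σ hj (α f j (MvPolynomial.X l)) * ev σ hi (α f i (MvPolynomial.X j)) := by
  let W := QCohLib.stdOpen n k i ⊓ QCohLib.stdOpen n k j
  have hW : ⊤ ≤ (σ.left ≫ f) ⁻¹ᵁ W := fun x hx => ⟨hi hx, hj hx⟩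
  have key : ∀ {V : (CohB1.ProjSpace n k).Opens} (hV : W ≤ V) (h : ⊤ ≤ (σ.left ≫ f) ⁻¹ᵁ V) a,
      (σ.left ≫ f).appLE V ⊤ h a = (σ.left ≫ f).appLE W ⊤ hW (resO n k hV a) := fun hV h a =>
    (ConcreteCategory.congr_hom (Scheme.Hom.map_appLE (σ.left ≫ f) hW (homOfLE hV).op) a).symm
  rw [ev_α, ev_α, ev_α, ← map_mul, key inf_le_left hi, key inf_le_right hj, key inf_le_left hi]
  refine congrArg _ (Eq.trans ?_ (map_mul ((σ.left ≫ f).appLE W ⊤ hW).hom _ _))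
  exact congrArg (fun x => (σ.left ≫ f).appLE W ⊤ hW x) (resO_deh_X n k i j l inf_le_left inf_le_right)

theorem mem_chartU_of_isUnit (σ : algSpec k B ⟶ A) (i j : Fin (n + 1)) (hi : ⊤ ≤ σ.left ⁻¹ᵁ chartU f i)
    (hu : IsUnit (ev σ hi (α f i (MvPolynomial.X j)))) : ⊤ ≤ σ.left ⁻¹ᵁ chartU f j := by
  rw [ev_α] at hu
  have hu' : IsUnit ((σ.left ≫ f).appLE (QCohLib.stdOpen n k i) ⊤ hi (deh n k i (MvPolynomial.X j))) := by
    have := hu.map (Scheme.ΓSpecIso (CommRingCat.of B)).inv.hom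
    rwa [← CommRingCat.comp_apply, Iso.hom_inv_id] at this
  have hb := Scheme.basicOpen_appLE (σ.left ≫ f) ⊤ (QCohLib.stdOpen n k i) hi (deh n k i (MvPolynomial.X j))
  rw [Scheme.basicOpen_of_isUnit _ hu', basicOpen_deh_X] at hb
  intro x hx
  exact (hb.le hx).2.2

theorem ev_mem_adjoin (hf : f ≫ CohB1.ProjSpace.toSpec n k = A.hom) [IsClosedImmersion f]
    (σ : algSpec k B ⟶ A) (i : Fin (n + 1)) (h : ⊤ ≤ σ.left ⁻¹ᵁ chartU f i) (a : Γ(A.left, chartU f i)) :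
    ev σ h a ∈ Algebra.adjoin k (Set.range fun l => ev σ h (α f i (MvPolynomial.X l))) := by
  obtain ⟨p, rfl⟩ := α_surjective f i a
  induction p using MvPolynomial.induction_on with
  | C r => rw [ev_α_C f hf]; exact Subalgebra.algebraMap_mem _ r
  | add a b ha hb => rw [map_add, map_add]; exact add_mem ha hb
  | mul_X a l ha => rw [map_mul, map_mul]; exact mul_mem ha (Algebra.subset_adjoin ⟨l, rfl⟩)

theorem eq_of_ev_eq (hf : f ≫ CohB1.ProjSpace.toSpec n k = A.hom) [IsClosedImmersion f] (σ σ' : algSpec k B ⟶ A)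
    (i : Fin (n + 1)) (h : ⊤ ≤ σ.left ⁻¹ᵁ chartU f i) (h' : ⊤ ≤ σ'.left ⁻¹ᵁ chartU f i)
    (heq : ∀ l, ev σ h (α f i (MvPolynomial.X l)) = ev σ' h' (α f i (MvPolynomial.X l))) : σ = σ' := by
  have he : ev σ h = ev σ' h' := by
    have hp : (ev σ h).comp (α f i) = (ev σ' h').comp (α f i) :=
      MvPolynomial.ringHom_ext (fun r => by simp [ev_α_C f hf]) heq
    ext a
    obtain ⟨p, rfl⟩ := α_surjective f i a
    exact RingHom.congr_fun hp p
  ext1
  rw [← SpecMap_ev σ (isAffineOpen_chartU f i) h, ← SpecMap_ev σ' (isAffineOpen_chartU f i) h', he]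

end Ev

section Tau

variable [GrpObj A] (v : algSpec k (Tg g k) ⟶ A) {B B' : Type u} [CommRing B] [Algebra k B] [CommRing B'] [Algebra k B']

/-- The variation of a point along a first order point at the origin. -/
def τ (σ : algSpec k B ⟶ A) : algSpec k (Tg g B) ⟶ A :=
  (algSpecMap (inlT (k := k) g) ≫ σ) * (algSpecMap (mapT (Algebra.ofId k B)) ≫ v)

theorem τ_pre (φ : B →ₐ[k] B') (σ : algSpec k B ⟶ A) :
    algSpecMap (mapT φ) ≫ τ v σ = τ v (algSpecMap φ ≫ σ) := by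
  rw [τ, τ, MonObj.comp_mul, ← Category.assoc, ← Category.assoc, ← Category.assoc, algSpecMap_comp, algSpecMap_comp,
    algSpecMap_comp]
  congr 3
  · apply AlgHom.ext; intro x; ext <;> simp
  · apply AlgHom.ext; intro x; ext <;> simp [Algebra.ofId_apply]

theorem fst_τ (hv : algSpecMap (fstT (k := k) g) ≫ v = 1) (σ : algSpec k B ⟶ A) :
    algSpecMap (fstT (k := k) g) ≫ τ v σ = σ := by
  rw [τ, MonObj.comp_mul, ← Category.assoc, ← Category.assoc, algSpecMap_comp, algSpecMap_comp,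
    show (fstT (k := k) (B := B) g).comp (inlT g) = AlgHom.id k B from AlgHom.ext fun x => rfl, algSpecMap_id,
    Category.id_comp,
    show (fstT (k := k) (B := B) g).comp (mapT (Algebra.ofId k B)) = (Algebra.ofId k B).comp (fstT g) from
      AlgHom.ext fun x => by simp,
    ← algSpecMap_comp, Category.assoc, hv, MonObj.comp_one, _root_.mul_one]

theorem τ_mem (hv : algSpecMap (fstT (k := k) g) ≫ v = 1) (σ : algSpec k B ⟶ A) {U : A.left.Opens}
    (h : ⊤ ≤ σ.left ⁻¹ᵁ U) : ⊤ ≤ (τ v σ).left ⁻¹ᵁ U := by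
  intro x _
  have hs : Function.Surjective (PrimeSpectrum.comap (fstT (k := k) (B := B) g).toRingHom) := by
    refine AbSchLib.comap_surj _ (fun b => ⟨TrivSqZeroExt.inl b, rfl⟩) fun z hz => ⟨2, ?_⟩
    have hz' : z.fst = 0 := hz
    rw [pow_two]
    ext <;> simp [TrivSqZeroExt.snd_mul, hz']
  obtain ⟨y, rfl⟩ := hs x
  show (τ v σ).left ((algSpecMap (fstT (k := k) (B := B) g)).left y) ∈ U
  rw [← Scheme.Hom.comp_apply]
  show ((algSpecMap (fstT (k := k) (B := B) g) ≫ τ v σ).left y) ∈ U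
  rw [fst_τ v hv]
  exact h trivial

variable (hv : algSpecMap (fstT (k := k) g) ≫ v = 1)

/-- The first order variations of the coordinates. -/
def dcoord (σ : algSpec k B ⟶ A) (i : Fin (n + 1)) (h : ⊤ ≤ σ.left ⁻¹ᵁ chartU f i) (l : Fin (n + 1)) : Fin g → B :=
  (ev (τ v σ) (τ_mem v hv σ h) (α f i (MvPolynomial.X l))).snd

theorem fst_ev_τ (σ : algSpec k B ⟶ A) {U : A.left.Opens} (h : ⊤ ≤ σ.left ⁻¹ᵁ U) (a : Γ(A.left, U)) :
    (ev (τ v σ) (τ_mem v hv σ h) a).fst = ev σ h a := by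
  have key : ∀ (σ' : algSpec k B ⟶ A) (h' : ⊤ ≤ σ'.left ⁻¹ᵁ U), σ' = σ → ev σ' h' a = ev σ h a := by
    rintro _ _ rfl; rfl
  have hmem : ⊤ ≤ (algSpecMap (fstT (k := k) (B := B) g) ≫ τ v σ).left ⁻¹ᵁ U := by rw [fst_τ v hv]; exact h
  have e1 := ev_pre (fstT (k := k) (B := B) g) (τ v σ) (τ_mem v hv σ h) hmem a
  rw [fstT_apply] at e1
  rw [← e1]
  exact key _ hmem (fst_τ v hv σ)

theorem dcoord_pre (φ : B →ₐ[k] B') (σ : algSpec k B ⟶ A) (i : Fin (n + 1)) (h : ⊤ ≤ σ.left ⁻¹ᵁ chartU f i)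
    (h' : ⊤ ≤ (algSpecMap φ ≫ σ).left ⁻¹ᵁ chartU f i) (l : Fin (n + 1)) (m : Fin g) :
    dcoord f v hv (algSpecMap φ ≫ σ) i h' l m = φ (dcoord f v hv σ i h l m) := by
  have key : ∀ (σ' : algSpec k (Tg g B') ⟶ A) (h1 : ⊤ ≤ σ'.left ⁻¹ᵁ chartU f i), σ' = τ v (algSpecMap φ ≫ σ) →
      ev σ' h1 (α f i (MvPolynomial.X l)) =
        ev (τ v (algSpecMap φ ≫ σ)) (τ_mem v hv _ h') (α f i (MvPolynomial.X l)) := by
    rintro _ _ rfl; rfl
  have e := key _ (by rw [τ_pre]; exact τ_mem v hv _ h') (τ_pre v φ σ)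
  rw [ev_pre (mapT φ) (τ v σ) (τ_mem v hv σ h)] at e
  exact (congrArg (fun x : Tg g B' => x.snd m) e).symm.trans (snd_mapT φ _ m)

theorem dcoord_self (σ : algSpec k B ⟶ A) (i : Fin (n + 1)) (h : ⊤ ≤ σ.left ⁻¹ᵁ chartU f i) :
    dcoord f v hv σ i h i = 0 := by
  simp [dcoord, α_self]

theorem dcoord_change (σ : algSpec k B ⟶ A) (i j l : Fin (n + 1)) (hi : ⊤ ≤ σ.left ⁻¹ᵁ chartU f i)
    (hj : ⊤ ≤ σ.left ⁻¹ᵁ chartU f j) (m : Fin g) :
    dcoord f v hv σ i hi l m = ev σ hj (α f j (MvPolynomial.X l)) * dcoord f v hv σ i hi j m +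
      dcoord f v hv σ j hj l m * ev σ hi (α f i (MvPolynomial.X j)) := by
  have h := congrArg (fun x : Tg g B => x.snd m) (ev_change f (τ v σ) i j l (τ_mem v hv σ hi) (τ_mem v hv σ hj))
  simp only [TrivSqZeroExt.snd_mul, Pi.add_apply, Pi.smul_apply, smul_eq_mul, MulOpposite.smul_eq_mul_unop,
    MulOpposite.unop_op] at h
  rw [fst_ev_τ v hv σ hj, fst_ev_τ v hv σ hi] at h
  exact h

end Tau

end AVEmbedLib

end
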