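import Groth.Agent.AVEmbedLib.Coord
import Mathlib.RingTheory.Nakayama
import Mathlib.LinearAlgebra.Dual.Lemmas

/-!
The coordinate variations in independent directions span.
-/

set_option autoImplicit false
set_option maxHeartbeats 1000000
set_option backward.isDefEq.respectTransparency false
set_option linter.style.haveILetI false

noncomputable section

universe u

open CategoryTheory CategoryTheory.Limits MonoidalCategory CartesianMonoidalCategory MonObj AlgebraicGeometry TopologicalSpace
open IsLocalRing AVAmpleLib GradedCechLib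

namespace AVEmbedLib

/-- Rows spanning modulo every maximal ideal span. -/
theorem exists_dual_of_spanning {R : Type u} [CommRing R] {J : Type} [Fintype J] {g : ℕ} (M : J → Fin g → R)
    (h : ∀ (F : Type u) [Field F] [Algebra R F], Function.Surjective (algebraMap R F) →
      ∀ w : Fin g → F, (∀ i, ∑ l, w l * algebraMap R F (M i l) = 0) → w = 0) :
    ∃ c : Fin g → J → R, ∀ l m, ∑ i, c l i * M i m = if l = m then 1 else 0 := by
  classical
  suffices htop : Submodule.span R (Set.range M) = ⊤ by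
    have hh : ∀ l, ∃ c : J → R, ∑ i, c i • M i = Pi.single l 1 := fun l =>
      (Submodule.mem_span_range_iff_exists_fun R).1 (htop ▸ Submodule.mem_top)
    choose c hc using hh
    refine ⟨c, fun l m => ?_⟩
    have := congrFun (hc l) m
    rw [Finset.sum_apply] at this
    simpa [Pi.single_apply, eq_comm] using this
  by_contra hne
  set N := Submodule.span R (Set.range M)
  let I : Ideal R := Module.annihilator R ((Fin g → R) ⧸ N)
  have hI : I ≠ ⊤ := by
    intro htop
    apply hne
    rw [Submodule.eq_top_iff']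
    intro x
    have := Module.mem_annihilator.1 (htop ▸ Submodule.mem_top (x := (1 : R))) (Submodule.Quotient.mk x)
    rwa [one_smul, Submodule.Quotient.mk_eq_zero] at this
  obtain ⟨m, hm, hIm⟩ := Ideal.exists_le_maximal I hI
  letI : Field (R ⧸ m) := Ideal.Quotient.field m
  let q : (Fin g → R) →ₗ[R] (Fin g → R ⧸ m) := LinearMap.pi fun l => (Submodule.mkQ m).comp (LinearMap.proj l)
  have hspan : Submodule.span (R ⧸ m) (Set.range fun i => q (M i)) = ⊤ := by
    by_contra hne'
    obtain ⟨φ, hφ0, hφ⟩ := Submodule.exists_dual_map_eq_bot_of_lt_top (lt_top_iff_ne_top.2 hne') inferInstance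
    apply hφ0
    have hw := h (R ⧸ m) (Ideal.Quotient.mk_surjective) (fun l => φ (Pi.single l 1)) fun i => by
      have h0 : φ (q (M i)) = 0 := by
        have : φ (q (M i)) ∈ (Submodule.span (R ⧸ m) (Set.range fun i => q (M i))).map φ :=
          ⟨_, Submodule.subset_span ⟨i, rfl⟩, rfl⟩
        rwa [hφ, Submodule.mem_bot] at this
      refine Eq.trans ?_ h0
      conv_rhs => rw [← Finset.univ_sum_single (q (M i)), map_sum]
      refine Finset.sum_congr rfl fun l _ => ?_
      rw [show Pi.single l (q (M i) l) = (q (M i) l) • Pi.single (M := fun _ : Fin g => R ⧸ m) l 1 by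
        rw [← Pi.single_smul', smul_eq_mul, _root_.mul_one], map_smul, smul_eq_mul, mul_comm]
      rfl
    exact LinearMap.pi_ext fun l x => by
      have : φ (Pi.single l 1) = 0 := congrFun hw l
      rw [show Pi.single l x = x • Pi.single (M := fun _ : Fin g => R ⧸ m) l 1 by
        rw [← Pi.single_smul', smul_eq_mul, _root_.mul_one], map_smul, this, smul_zero, LinearMap.zero_apply]
  have hle : (⊤ : Submodule R ((Fin g → R) ⧸ N)) ≤ m • ⊤ := by
    intro z _
    obtain ⟨x, rfl⟩ := Submodule.Quotient.mk_surjective N z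
    obtain ⟨c, hc⟩ := (Submodule.mem_span_range_iff_exists_fun (R ⧸ m)).1 (hspan ▸ Submodule.mem_top (x := q x))
    choose d hd using fun i => Ideal.Quotient.mk_surjective (c i)
    have hxm : ∀ l, x l - ∑ i, d i * M i l ∈ m := fun l => by
      rw [← Ideal.Quotient.eq_zero_iff_mem, map_sub, map_sum, sub_eq_zero]
      have := congrFun hc l
      rw [Finset.sum_apply] at this
      simpa [q, hd] using this.symm
    have hdec : x = (∑ i, d i • M i) + ∑ l, (x l - ∑ i, d i * M i l) • Pi.single (M := fun _ : Fin g => R) l 1 := by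
      funext l
      simp [Pi.single_apply, Finset.sum_apply, Finset.sum_ite_eq]
    rw [hdec, Submodule.Quotient.mk_add, show Submodule.Quotient.mk (p := N) (∑ i, d i • M i) = 0 from
      (Submodule.Quotient.mk_eq_zero N).2 (Submodule.sum_mem _ fun i _ => Submodule.smul_mem _ _ (Submodule.subset_span ⟨i, rfl⟩)),
      zero_add]
    show N.mkQ _ ∈ _
    rw [map_sum]
    refine Submodule.sum_mem _ fun l _ => ?_
    rw [map_smul]
    exact Submodule.smul_mem_smul (hxm l) Submodule.mem_top
  obtain ⟨r, hr1, hr⟩ := Submodule.exists_sub_one_mem_and_smul_eq_zero_of_fg_of_le_smul m ⊤ Module.Finite.fg_top hle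
  exact hm.ne_top ((Ideal.eq_top_iff_one m).2 (by
    have hrm : r ∈ m := hIm (Module.mem_annihilator.2 fun y => hr y trivial)
    simpa using m.sub_mem hrm hr1))

variable {k : Type u} [Field k] {n g : ℕ} {A : Over (Spec (CommRingCat.of k))} [GrpObj A]
  (f : A.left ⟶ CohB1.ProjSpace n k) [IsClosedImmersion f]

/-- At a point of a chart, only the zero covector kills all the variations of the coordinates. -/
theorem covector_eq_zero (hf : f ≫ CohB1.ProjSpace.toSpec n k = A.hom) {V : A.left.Opens} (hV : IsAffineOpen V)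
    (v : algSpec k (Tg g k) ⟶ A) (ψ : Γ(A.left, V) →+* Tg g k)
    (hψ : Spec.map (CommRingCat.ofHom ψ) ≫ hV.fromSpec = v.left) (hv : algSpecMap (fstT (k := k) g) ≫ v = 1)
    (hspan : ∀ w : Fin g → k, (∀ a, ∑ l, w l * (ψ a).snd l = 0) → w = 0)
    {F : Type u} [Field F] [Algebra k F] (σ : algSpec k F ⟶ A) (i : Fin (n + 1))
    (h : ⊤ ≤ σ.left ⁻¹ᵁ chartU f i) (w : Fin g → F)
    (hw : ∀ j, ∑ l, w l * dcoord f v hv σ i h j l = 0) : w = 0 := by
  classical
  let P1 : algSpec k (DualNumber F) ⟶ A := algSpecMap (contractT w) ≫ τ v σ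
  let i0 : F →ₐ[k] DualNumber F := IsScalarTower.toAlgHom k F (DualNumber F)
  let P0 : algSpec k (DualNumber F) ⟶ A := algSpecMap i0 ≫ σ
  have h1 : ⊤ ≤ P1.left ⁻¹ᵁ chartU f i := fun x _ => τ_mem v hv σ h trivial
  have h0 : ⊤ ≤ P0.left ⁻¹ᵁ chartU f i := fun x _ => h trivial
  have hP : P1 = P0 := eq_of_ev_eq f hf P1 P0 i h1 h0 fun l => by
    rw [ev_pre (contractT w) (τ v σ) (τ_mem v hv σ h) h1, ev_pre i0 σ h h0]
    ext
    · rw [fst_contractT, fst_ev_τ v hv σ h]; rfl
    · rw [snd_contractT]; exact hw l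
  have hci : (contractT (k := k) w).comp (inlT g) = i0 := by
    apply AlgHom.ext; intro x; ext <;> simp [i0, TrivSqZeroExt.algebraMap_eq_inl']
  have hq : algSpecMap ((contractT w).comp (mapT (Algebra.ofId k F))) ≫ v = 1 := by
    simp only [P1, P0, τ, MonObj.comp_mul, ← Category.assoc, algSpecMap_comp, hci] at hP
    exact mul_left_cancel (hP.trans (_root_.mul_one _).symm)
  let q1 := (contractT (k := k) w).comp (mapT (Algebra.ofId k F))
  let q0 := (i0.comp (Algebra.ofId k F)).comp (fstT (k := k) (B := k) g)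
  have hq' : algSpecMap q1 ≫ v = algSpecMap q0 ≫ v := by
    rw [hq, show algSpecMap q0 = algSpecMap (i0.comp (Algebra.ofId k F)) ≫ algSpecMap (fstT (k := k) (B := k) g) from
      (algSpecMap_comp _ _).symm, Category.assoc, hv, MonObj.comp_one]
  have hl := congrArg Over.Hom.left hq'
  simp only [Over.comp_left] at hl
  rw [← hψ] at hl
  change Spec.map (CommRingCat.ofHom q1.toRingHom) ≫ Spec.map (CommRingCat.ofHom ψ) ≫ hV.fromSpec =
    Spec.map (CommRingCat.ofHom q0.toRingHom) ≫ Spec.map (CommRingCat.ofHom ψ) ≫ hV.fromSpec at hl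
  rw [← Spec.map_comp_assoc, ← Spec.map_comp_assoc, cancel_mono, Spec.map_inj] at hl
  have hzero : ∀ a, ∑ l, w l * algebraMap k F ((ψ a).snd l) = 0 := fun a => by
    have := congrArg (fun φ : CommRingCat.of Γ(A.left, V) ⟶ CommRingCat.of (DualNumber F) => (φ.hom a).snd) hl
    simpa [q1, q0, i0, Algebra.ofId_apply, TrivSqZeroExt.algebraMap_eq_inl'] using this
  -- expand in a basis of `F` over `k`
  let b := Module.Basis.ofVectorSpace k F
  funext l
  refine b.ext_elem fun t => ?_
  rw [Pi.zero_apply, map_zero, Finsupp.zero_apply]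
  refine congrFun (hspan (fun l => b.repr (w l) t) fun a => ?_) l
  have := congrArg (fun x => b.repr x t) (hzero a)
  simp only [map_sum, Finsupp.coe_finset_sum, Finset.sum_apply, map_zero, Finsupp.zero_apply] at this
  refine Eq.trans (Finset.sum_congr rfl fun l _ => ?_) this
  rw [mul_comm (w l), ← Algebra.smul_def, map_smul, Finsupp.smul_apply, smul_eq_mul, mul_comm]

/-- Dual sections to the variations of the coordinates on each chart. -/
theorem exists_dual_sections (hf : f ≫ CohB1.ProjSpace.toSpec n k = A.hom) {V : A.left.Opens} (hV : IsAffineOpen V)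
    (v : algSpec k (Tg g k) ⟶ A) (ψ : Γ(A.left, V) →+* Tg g k)
    (hψ : Spec.map (CommRingCat.ofHom ψ) ≫ hV.fromSpec = v.left) (hv : algSpecMap (fstT (k := k) g) ≫ v = 1)
    (hspan : ∀ w : Fin g → k, (∀ a, ∑ l, w l * (ψ a).snd l = 0) → w = 0)
    {K : Type u} [Field K] [Algebra k K] (σ : algSpec k K ⟶ A) (i : Fin (n + 1))
    (h : ⊤ ≤ σ.left ⁻¹ᵁ chartU f i) :
    ∃ c : Fin g → Fin (n + 1) → K,
      (∀ l j, c l j ∈ Algebra.adjoin k (Set.range fun l => ev σ h (α f i (MvPolynomial.X l)))) ∧
      ∀ l m, ∑ j, c l j * dcoord f v hv σ i h j m = if l = m then 1 else 0 := by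
  classical
  haveI : IsAffineHom f := inferInstance
  let R := Γ(A.left, chartU f i)
  have hU : IsAffineOpen (chartU f i) := isAffineOpen_chartU f i
  obtain ⟨s, hs⟩ := Spec.map_surjective (hU.fromSpec ≫ A.hom)
  letI : Algebra k R := s.hom.toAlgebra
  let σ₀ : algSpec k R ⟶ A := Over.homMk hU.fromSpec hs.symm
  have h₀ : ⊤ ≤ σ₀.left ⁻¹ᵁ chartU f i := fun x _ => by
    have : hU.fromSpec x ∈ Set.range hU.fromSpec := ⟨x, rfl⟩
    rw [hU.range_fromSpec] at this
    exact this
  obtain ⟨c, hc⟩ := exists_dual_of_spanning (fun j => dcoord f v hv σ₀ i h₀ j) (fun F _ _ hsurj w hw => by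
    letI : Algebra k F := ((algebraMap R F).comp (algebraMap k R)).toAlgebra
    haveI : IsScalarTower k R F := IsScalarTower.of_algebraMap_eq fun _ => rfl
    let φ : R →ₐ[k] F := IsScalarTower.toAlgHom k R F
    have hφ : ⊤ ≤ (algSpecMap φ ≫ σ₀).left ⁻¹ᵁ chartU f i := fun x _ => h₀ trivial
    refine covector_eq_zero f hf hV v ψ hψ hv hspan (algSpecMap φ ≫ σ₀) i hφ w fun j => ?_
    refine Eq.trans (Finset.sum_congr rfl fun l _ => ?_) (hw j)
    rw [dcoord_pre f v hv φ σ₀ i h₀ hφ]
    rfl)
  have hev : Spec.map (CommRingCat.ofHom (ev σ h)) ≫ hU.fromSpec = σ.left := SpecMap_ev σ hU h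
  let φ : R →ₐ[k] K :=
    { ev σ h with
      commutes' := fun r => by
        have e : s ≫ CommRingCat.ofHom (ev σ h) = CommRingCat.ofHom (algebraMap k K) := by
          apply Spec.map_injective
          rw [Spec.map_comp, hs, ← Category.assoc, hev]
          exact Over.w σ
        exact congrArg (fun φ : CommRingCat.of k ⟶ CommRingCat.of K => φ.hom r) e }
  have hσ : algSpecMap φ ≫ σ₀ = σ := Over.OverMorphism.ext hev
  refine ⟨fun l j => φ (c l j), fun l j => ev_mem_adjoin f hf σ i h (c l j), fun l m => ?_⟩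
  have key : ∀ (σ' : algSpec k K ⟶ A) (h' : ⊤ ≤ σ'.left ⁻¹ᵁ chartU f i), σ' = σ →
      dcoord f v hv σ i h = dcoord f v hv σ' i h' := by rintro _ _ rfl; rfl
  rw [key (algSpecMap φ ≫ σ₀) (fun x _ => h₀ trivial) hσ]
  simp only [dcoord_pre f v hv φ σ₀ i h₀, ← map_mul, ← map_sum, hc, apply_ite φ, map_one, map_zero]

end AVEmbedLib

end
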