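import Groth.Agent.AVEmbedLib.TangentAlg
import Groth.Agent.AVEmbedLib.Frame
import Groth.Agent.GeomRedFieldLib.Locus
import Groth.Agent.CurveFFLib.GenEtale

/-!
An abelian variety of dimension `g` does not embed in projective space of dimension `< 2g`.
-/

set_option autoImplicit false
set_option maxHeartbeats 1000000
set_option backward.isDefEq.respectTransparency false
set_option linter.style.haveILetI false

noncomputable section

universe u

open CategoryTheory CategoryTheory.Limits MonoidalCategory CartesianMonoidalCategory MonObj AlgebraicGeometry TopologicalSpace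
open IsLocalRing AVAmpleLib GradedCechLib

namespace AVEmbedLib

theorem two_mul_dim_le {k : Type u} [Field k] (A : Over (Spec (CommRingCat.of k))) [GrpObj A] [IsProper A.hom]
    [GeometricallyIntegral A.hom] {g n : ℕ} (hg : topologicalKrullDim A.left = (g : ℕ))
    (f : A.left ⟶ CohB1.ProjSpace n k) [IsClosedImmersion f] (hf : f ≫ CohB1.ProjSpace.toSpec n k = A.hom) :
    2 * g ≤ n := by
  classical
  haveI : IsIntegral A.left := GeometricallyIntegral.isIntegral_of_subsingleton A.hom
  letI : A.left.Over (Spec (CommRingCat.of k)) := ⟨A.hom⟩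
  haveI : LocallyOfFiniteType (A.left ↘ Spec (CommRingCat.of k)) := inferInstanceAs (LocallyOfFiniteType A.hom)
  obtain ⟨V, hV, v, ψ, hψ, hv, hspan⟩ := exists_tangent_point A hg
  let ξ := genericPoint A.left
  letI : Algebra k A.left.functionField := Curv2.stalkAlgebra k A.left ξ
  obtain ⟨s, hs, hs'⟩ := CurveFFLib.trdeg_functionField (k := k) (X := A.left)
  have hsg : s = g := by exact_mod_cast hs.symm.trans hg
  let σ : algSpec k A.left.functionField ⟶ A := Over.homMk (A.left.fromSpecStalk ξ) (by
    show A.left.fromSpecStalk ξ ≫ (A.left ↘ Spec (CommRingCat.of k)) = _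
    rw [GeomRedFieldLib.fromSpecStalk_comp_over]
    rfl)
  have hrange : ∀ x, σ.left x = ξ := fun x => by
    rw [show x = closedPoint A.left.functionField from Subsingleton.elim (α := PrimeSpectrum A.left.functionField) _ _]
    exact Scheme.fromSpecStalk_closedPoint
  obtain ⟨o, ho'⟩ : ∃ o, ξ ∈ chartU f o := by
    have : f ξ ∈ ⨆ o, QCohLib.stdOpen n k o := by rw [QCohLib.iSup_stdOpen]; trivial
    obtain ⟨o, ho⟩ := Opens.mem_iSup.1 this
    exact ⟨o, ho⟩
  have ho : ⊤ ≤ σ.left ⁻¹ᵁ chartU f o := fun x _ => by
    show σ.left x ∈ chartU f o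
    rw [hrange]; exact ho'
  let z : Fin (n + 1) → A.left.functionField := fun i => ev σ ho (α f o (MvPolynomial.X i))
  let D : Fin g → Fin (n + 1) → A.left.functionField := fun m i => dcoord f v hv σ o ho i m
  refine two_mul_le_of_tangent (k := k) (le_of_eq (by rw [hs', hsg])) z D o (by simp [z, α_self])
    (fun m => by simp [D, dcoord_self]) ?_ ?_
  · -- the coordinates generate the function field
    have hU := isAffineOpen_chartU f o
    haveI : Nonempty (chartU f o) := ⟨⟨ξ, ho'⟩⟩
    haveI : IsFractionRing Γ(A.left, chartU f o) A.left.functionField :=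
      functionField_isFractionRing_of_isAffineOpen A.left (chartU f o) hU
    have hgerm : ev σ ho = algebraMap Γ(A.left, chartU f o) A.left.functionField := by
      have h1 : Spec.map (CommRingCat.ofHom (ev σ ho)) ≫ hU.fromSpec =
          Spec.map (A.left.presheaf.germ (chartU f o) ξ ho') ≫ hU.fromSpec := by
        rw [SpecMap_ev σ hU ho]
        exact (hU.fromSpecStalk_eq_fromSpecStalk ho').symm
      rw [cancel_mono, Spec.map_inj] at h1
      exact congrArg CommRingCat.Hom.hom h1
    rw [eq_top_iff]
    intro x _
    have hmem : ∀ a, algebraMap Γ(A.left, chartU f o) A.left.functionField a ∈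
        IntermediateField.adjoin k (Set.range z) := fun a => by
      rw [← hgerm]
      exact IntermediateField.algebra_adjoin_le_adjoin k _ (ev_mem_adjoin f hf σ o ho a)
    obtain ⟨a, b, -, rfl⟩ := IsFractionRing.div_surjective Γ(A.left, chartU f o) x
    exact div_mem (hmem a) (hmem b)
  · intro j hzj
    have hj : ⊤ ≤ σ.left ⁻¹ᵁ chartU f j := mem_chartU_of_isUnit f σ o j ho (isUnit_iff_ne_zero.2 hzj)
    obtain ⟨c, hc, hcd⟩ := exists_dual_sections f hf hV v ψ hψ hv hspan σ j hj
    have hcoord : ∀ i, z i = ev σ hj (α f j (MvPolynomial.X i)) * z j := fun i => ev_change f σ o j i ho hj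
    have hrat : (fun i => z i / z j) = fun i => ev σ hj (α f j (MvPolynomial.X i)) := funext fun i => by
      rw [hcoord i, mul_div_assoc, div_self hzj, _root_.mul_one]
    refine ⟨c, fun l i => hrat ▸ hc l i, fun l m => ?_⟩
    refine Eq.trans (Finset.sum_congr rfl fun i _ => congrArg (c l i * ·) ?_) (hcd l m)
    show (dcoord f v hv σ o ho i m * z j - z i * dcoord f v hv σ o ho j m) / z j ^ 2 = dcoord f v hv σ j hj i m
    rw [div_eq_iff (pow_ne_zero 2 hzj), hcoord i, dcoord_change f v hv σ o j i ho hj m]
    ring

end AVEmbedLib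

end
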