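import Mathlib.RingTheory.Valuation.LocalSubring
import Mathlib.RingTheory.AlgebraicIndependent.TranscendenceBasis
import Mathlib.RingTheory.AlgebraicIndependent.AlgebraicClosure
import Mathlib.FieldTheory.AlgebraicClosure
import Mathlib.RingTheory.Localization.FractionRing
import Mathlib.Tactic.FieldSimp
import Mathlib.Tactic.LinearCombination

/-!
The tangent map of a projectively embedded variety with everywhere independent vector fields is generically finite.
-/

set_option autoImplicit false
set_option maxHeartbeats 1000000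
set_option backward.isDefEq.respectTransparency false
set_option linter.style.haveILetI false

noncomputable section

universe u

open MvPolynomial

namespace AVEmbedLib

variable {k F : Type u} [Field k] [Field F] [Algebra k F]

/-- An element lying in every valuation ring containing a subfield is algebraic over it. -/
theorem isAlgebraic_of_forall_valuationSubring (L : IntermediateField k F) {x : F}
    (h : ∀ V : ValuationSubring F, (∀ y ∈ L, y ∈ V) → x ∈ V) : IsAlgebraic L x := by
  have hx : x ∈ ⨅ V : {V : ValuationSubring F // (L : Set F) ⊆ V.toSubring}, V.1.toSubring :=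
    Subring.mem_iInf.2 fun V => h V.1 fun y hy => V.2 hy
  rw [iInf_valuationSubring_superset] at hx
  have hle : Subring.closure (L : Set F) ≤ L.toSubalgebra.toSubring := Subring.closure_le.2 fun y hy => hy
  obtain ⟨P, hP, hP0⟩ := (hx : IsIntegral (Subring.closure (L : Set F)) x)
  let φ : Subring.closure (L : Set F) →+* L := Subring.inclusion hle
  have hint : IsIntegral L x := ⟨P.map φ, hP.map φ, by rw [Polynomial.eval₂_map]; exact hP0⟩
  exact hint.isAlgebraic

variable {K : Type u} [Field K] [Algebra k K] [Algebra K F] [IsScalarTower k K F]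

theorem isAlgebraic_tangent {n g : ℕ} (z : Fin (n + 1) → K) (D : Fin g → Fin (n + 1) → K)
    (o : Fin (n + 1)) (hzo : z o = 1)
    (H : ∀ j, z j ≠ 0 → ∃ c : Fin g → Fin (n + 1) → K,
      (∀ l i, c l i ∈ Algebra.adjoin k (Set.range fun i => z i / z j)) ∧
      ∀ l m, ∑ i, c l i * ((D m i * z j - z i * D m j) / z j ^ 2) = if l = m then 1 else 0)
    (β : Fin g → F) (L : IntermediateField k F)
    (hp : ∀ i, algebraMap K F (z i) + ∑ m, β m * algebraMap K F (D m i) ∈ L) :
    ∀ l i, IsAlgebraic L (β l * algebraMap K F (z i)) := by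
  intro l i
  refine isAlgebraic_of_forall_valuationSubring L fun V hV => ?_
  let ι := algebraMap K F
  obtain ⟨j, hj⟩ := Finite.exists_max fun j => V.valuation (ι (z j))
  have hzj : ι (z j) ≠ 0 := by
    intro h0
    have := hj o
    simp only [ι, hzo, map_one] at this
    rw [show V.valuation (algebraMap K F (z j)) = 0 by rw [show algebraMap K F (z j) = 0 from h0, map_zero]] at this
    exact absurd this (by simp)
  have hzj' : z j ≠ 0 := fun h0 => hzj (by simp [ι, h0])
  have hrat : ∀ i', ι (z i' / z j) ∈ V := fun i' => by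
    rw [← V.valuation_le_one_iff, map_div₀, map_div₀]
    exact div_le_one_of_le₀ (hj i') zero_le
  have hadj : ∀ c ∈ Algebra.adjoin k (Set.range fun i' => z i' / z j), ι c ∈ V := by
    intro c hc
    induction hc using Algebra.adjoin_induction with
    | mem x hx =>
      obtain ⟨i', rfl⟩ := hx
      exact hrat i'
    | algebraMap r =>
      rw [show ι (algebraMap k K r) = algebraMap k F r from (IsScalarTower.algebraMap_apply k K F r).symm]
      exact hV _ (L.algebraMap_mem r)
    | add x y _ _ hx hy => rw [map_add]; exact V.add_mem _ _ hx hy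
    | mul x y _ _ hx hy => rw [map_mul]; exact V.mul_mem _ _ hx hy
  obtain ⟨c, hc, hcd⟩ := H j hzj'
  set p : Fin (n + 1) → F := fun i' => ι (z i') + ∑ m, β m * ι (D m i') with hpdef
  have key : β l * ι (z j) = ∑ i', ι (c l i') * (p i' - p j * ι (z i' / z j)) := by
    have h1 : ∀ i', p i' - p j * ι (z i' / z j) =
        ι (z j) * ∑ m, β m * ι ((D m i' * z j - z i' * D m j) / z j ^ 2) := by
      intro i'
      simp only [hpdef, add_mul, Finset.sum_mul, Finset.mul_sum, map_div₀, map_sub, map_mul, map_pow]
      rw [mul_div_cancel₀ _ hzj, add_sub_add_left_eq_sub, ← Finset.sum_sub_distrib]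
      refine Finset.sum_congr rfl fun m _ => ?_
      field_simp
    calc β l * ι (z j) = ι (z j) * ∑ m, β m * ι (if l = m then 1 else 0) := by
          simp [apply_ite ι, mul_comm]
      _ = _ := by
          simp only [h1, ← hcd, map_sum, map_mul, Finset.mul_sum]
          rw [Finset.sum_comm]
          exact Finset.sum_congr rfl fun i' _ => Finset.sum_congr rfl fun m _ => by ring
  have hjV : β l * ι (z j) ∈ V := by
    rw [key]
    refine sum_mem fun i' _ => V.mul_mem _ _ (hadj _ (hc l i')) ?_
    exact sub_mem (hV _ (hp i')) (V.mul_mem _ _ (hV _ (hp j)) (hrat i'))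
  have heq : β l * ι (z i) = ι (z i / z j) * (β l * ι (z j)) := by
    rw [map_div₀]
    field_simp
  rw [heq]
  exact V.mul_mem _ _ (hrat i) hjV

theorem two_mul_le_of_tangent {k K : Type u} [Field k] [Field K] [Algebra k K] {n g : ℕ}
    (hK : (g : Cardinal) ≤ Algebra.trdeg k K)
    (z : Fin (n + 1) → K) (D : Fin g → Fin (n + 1) → K) (o : Fin (n + 1)) (hzo : z o = 1) (hDo : ∀ l, D l o = 0)
    (hgen : IntermediateField.adjoin k (Set.range z) = ⊤)
    (H : ∀ j, z j ≠ 0 → ∃ c : Fin g → Fin (n + 1) → K,
      (∀ l i, c l i ∈ Algebra.adjoin k (Set.range fun i => z i / z j)) ∧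
      ∀ l m, ∑ i, c l i * ((D m i * z j - z i * D m j) / z j ^ 2) = if l = m then 1 else 0) :
    2 * g ≤ n := by
  classical
  rcases Nat.eq_zero_or_pos g with hg | hg
  · omega
  let F := FractionRing (MvPolynomial (Fin g) K)
  let β : Fin g → F := fun l => algebraMap (MvPolynomial (Fin g) K) F (X l)
  let p : Fin (n + 1) → F := fun i => algebraMap K F (z i) + ∑ m, β m * algebraMap K F (D m i)
  have hpo : p o = 1 := by simp [p, hzo, hDo]
  let s : Set F := Set.range fun i : {i : Fin (n + 1) // i ≠ o} => p i.1
  let L : IntermediateField k F := IntermediateField.adjoin k s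
  have hp : ∀ i, p i ∈ L := fun i => by
    by_cases hi : i = o
    · rw [hi, hpo]; exact one_mem L
    · exact IntermediateField.subset_adjoin k s ⟨⟨i, hi⟩, rfl⟩
  have halg := isAlgebraic_tangent z D o hzo H β L hp
  have hβ : ∀ l, IsAlgebraic L (β l) := fun l => by simpa [hzo] using halg l o
  have hz : ∀ i, IsAlgebraic L (algebraMap K F (z i)) := fun i => by
    have hne : β ⟨0, hg⟩ ≠ 0 := (map_ne_zero_iff _ (IsFractionRing.injective _ F)).2 (X_ne_zero _)
    have := (halg ⟨0, hg⟩ i).mul ((hβ ⟨0, hg⟩).inv)
    rwa [mul_comm (β ⟨0, hg⟩), mul_assoc, mul_inv_cancel₀ hne, mul_one] at this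
  let M := algebraicClosure L F
  have hK' : ∀ x : K, algebraMap K F x ∈ M := by
    intro x
    have hx : x ∈ IntermediateField.adjoin k (Set.range z) := hgen ▸ IntermediateField.mem_top
    induction hx using IntermediateField.adjoin_induction k with
    | mem y hy =>
      obtain ⟨i, rfl⟩ := hy
      exact mem_algebraicClosure_iff.2 (hz i)
    | algebraMap r =>
      rw [← IsScalarTower.algebraMap_apply, IsScalarTower.algebraMap_apply k L F]
      exact M.algebraMap_mem _
    | add x y _ _ hx hy => rw [map_add]; exact add_mem hx hy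
    | inv x _ hx => rw [map_inv₀]; exact inv_mem hx
    | mul x y _ _ hx hy => rw [map_mul]; exact mul_mem hx hy
  have hpoly : ∀ q : MvPolynomial (Fin g) K, algebraMap _ F q ∈ M := by
    intro q
    induction q using MvPolynomial.induction_on with
    | C a => exact (IsScalarTower.algebraMap_apply K (MvPolynomial (Fin g) K) F a) ▸ hK' a
    | add a b ha hb => rw [map_add]; exact add_mem ha hb
    | mul_X a i ha => rw [map_mul]; exact mul_mem ha (mem_algebraicClosure_iff.2 (hβ i))
  haveI hFL : Algebra.IsAlgebraic L F := ⟨fun x => by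
    obtain ⟨a, b, -, rfl⟩ := IsFractionRing.div_surjective (MvPolynomial (Fin g) K) x
    exact mem_algebraicClosure_iff.1 (div_mem (hpoly a) (hpoly b))⟩
  haveI : Algebra.IsAlgebraic (Algebra.adjoin k s) F := IntermediateField.isAlgebraic_adjoin_iff_top.1 hFL
  have h1 : Algebra.trdeg k F ≤ n := by
    refine (Algebra.IsAlgebraic.trdeg_le_cardinalMk k s).trans ?_
    have hs := Cardinal.mk_range_le_lift (f := fun i : {i : Fin (n + 1) // i ≠ o} => p i.1)
    simpa [Fintype.card_subtype_compl] using hs
  have h2 : (g : Cardinal) ≤ Algebra.trdeg K F := by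
    have hb : AlgebraicIndependent K β :=
      (MvPolynomial.algebraicIndependent_X (Fin g) K).map' (f := IsScalarTower.toAlgHom K _ F)
        (IsFractionRing.injective _ F)
    simpa using hb.lift_cardinalMk_le_trdeg
  have h3 := (trdeg_add_le (R := k) (S := K) (A := F))
  have h4 : ((g + g : ℕ) : Cardinal) ≤ n := by
    push_cast
    exact ((add_le_add hK h2).trans h3).trans h1
  have : g + g ≤ n := by exact_mod_cast h4
  omega

end AVEmbedLib

end
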