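import Groth.Agent.AVAmpleLib.TruncPoint

/-!
First order points: the trivial square zero extension by a free module, and a spanning first order point at the origin.
-/

set_option autoImplicit false
set_option maxHeartbeats 1000000
set_option backward.isDefEq.respectTransparency false
set_option linter.style.haveILetI false

noncomputable section

universe u

open CategoryTheory CategoryTheory.Limits MonoidalCategory CartesianMonoidalCategory MonObj AlgebraicGeometry TopologicalSpace
open IsLocalRing AVAmpleLib

namespace AVEmbedLib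

/-- The first order thickening with `g` independent directions. -/
abbrev Tg (g : ℕ) (B : Type u) [CommRing B] : Type u := TrivSqZeroExt B (Fin g → B)

variable {k : Type u} [Field k] {g : ℕ} {B C : Type u} [CommRing B] [Algebra k B] [CommRing C] [Algebra k C]

/-- The projection. -/
def fstT (g : ℕ) : Tg g B →ₐ[k] B := TrivSqZeroExt.fstHom k B (Fin g → B)

/-- The zero section. -/
def inlT (g : ℕ) : B →ₐ[k] Tg g B := IsScalarTower.toAlgHom k B (Tg g B)

@[simp] theorem fstT_apply (x : Tg g B) : fstT (k := k) g x = x.fst := rfl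
@[simp] theorem fst_inlT (x : B) : (inlT (k := k) g x).fst = x := rfl
@[simp] theorem snd_inlT (x : B) : (inlT (k := k) g x).snd = 0 := rfl

/-- Functoriality in the ring. -/
def mapT (φ : B →ₐ[k] C) : Tg g B →ₐ[k] Tg g C where
  toFun x := TrivSqZeroExt.inl (φ x.fst) + TrivSqZeroExt.inr (fun l => φ (x.snd l))
  map_one' := by ext <;> simp
  map_zero' := by ext <;> simp
  map_add' x y := by ext <;> simp
  map_mul' x y := by
    ext
    · simp
    · simp [TrivSqZeroExt.snd_mul, mul_comm]
  commutes' r := by ext <;> simp [TrivSqZeroExt.algebraMap_eq_inl']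

@[simp] theorem fst_mapT (φ : B →ₐ[k] C) (x : Tg g B) : (mapT φ x).fst = φ x.fst := by simp [mapT]
@[simp] theorem snd_mapT (φ : B →ₐ[k] C) (x : Tg g B) (l : Fin g) : (mapT φ x).snd l = φ (x.snd l) := by simp [mapT]

/-- Contraction with a covector. -/
def contractT (w : Fin g → B) : Tg g B →ₐ[k] DualNumber B where
  toFun x := TrivSqZeroExt.inl x.fst + TrivSqZeroExt.inr (∑ l, w l * x.snd l)
  map_one' := by ext <;> simp
  map_zero' := by ext <;> simp
  map_add' x y := by ext <;> simp [mul_add, Finset.sum_add_distrib]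
  map_mul' x y := by
    ext
    · simp
    · simp [TrivSqZeroExt.snd_mul, mul_add, Finset.sum_add_distrib, Finset.mul_sum, Finset.sum_mul]
      rw [← Finset.sum_add_distrib, ← Finset.sum_add_distrib]
      exact Finset.sum_congr rfl fun _ _ => by ring
  commutes' r := by ext <;> simp [TrivSqZeroExt.algebraMap_eq_inl']

@[simp] theorem fst_contractT (w : Fin g → B) (x : Tg g B) : (contractT (k := k) w x).fst = x.fst := by simp [contractT]
@[simp] theorem snd_contractT (w : Fin g → B) (x : Tg g B) : (contractT (k := k) w x).snd = ∑ l, w l * x.snd l := by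
  simp [contractT]

theorem exists_tangent_hom {L : Type u} [CommRing L] [IsLocalRing L] [IsNoetherianRing L] [Algebra k L]
    (c : L →ₐ[k] k) (hg : (g : WithBot ℕ∞) ≤ ringKrullDim L) :
    ∃ ψ : L →ₐ[k] Tg g k, (∀ a, (ψ a).fst = c a) ∧ ∀ i, ∃ a, c a = 0 ∧ (ψ a).snd = Pi.single i 1 := by
  classical
  have hcs : Function.Surjective c.toRingHom := fun x => ⟨algebraMap k L x, c.commutes x⟩
  have hm : RingHom.ker c.toRingHom = maximalIdeal L := eq_maximalIdeal (RingHom.ker_isMaximal_of_surjective _ hcs)
  let c' : ResidueField L →+* k := Ideal.Quotient.lift (maximalIdeal L) c.toRingHom fun a ha => (hm.ge ha :)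
  let n := Module.finrank (ResidueField L) (CotangentSpace L)
  have hn : g ≤ n := by
    have := hg.trans (ringKrullDim_le_spanFinrank_maximalIdeal L)
    rw [spanFinrank_maximalIdeal_eq_finrank_cotangentSpace] at this
    exact_mod_cast this
  let b := Module.finBasis (ResidueField L) (CotangentSpace L)
  have hmem : ∀ a : L, a - algebraMap k L (c a) ∈ maximalIdeal L := fun a => by
    rw [← hm, RingHom.mem_ker]
    simp
  let cls : L → CotangentSpace L := fun a => (maximalIdeal L).toCotangent ⟨_, hmem a⟩
  let δ : L → Fin g → k := fun a i => c' (b.repr (cls a) (Fin.castLE hn i))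
  have cls_add : ∀ a a', cls (a + a') = cls a + cls a' := fun a a' => by
    rw [← map_add]
    exact congrArg _ (Subtype.ext (show a + a' - algebraMap k L (c (a + a')) =
      (a - algebraMap k L (c a)) + (a' - algebraMap k L (c a')) by rw [map_add, map_add]; ring))
  have cls_const : ∀ x : k, cls (algebraMap k L x) = 0 := fun x => by
    show (maximalIdeal L).toCotangent _ = 0
    rw [show (⟨_, hmem (algebraMap k L x)⟩ : maximalIdeal L) = 0 from Subtype.ext (by simp)]
    exact map_zero _
  have hc' : ∀ x : k, c' (residue L (algebraMap k L x)) = x := fun x => c.commutes x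
  have cls_mul : ∀ a a', cls (a * a') = algebraMap k L (c a) • cls a' + algebraMap k L (c a') • cls a := fun a a' => by
    rw [← map_smul, ← map_smul, ← map_add]
    refine (Ideal.toCotangent_eq _).2 ?_
    show a * a' - algebraMap k L (c (a * a')) -
      (algebraMap k L (c a) * (a' - algebraMap k L (c a')) + algebraMap k L (c a') * (a - algebraMap k L (c a))) ∈ _
    rw [show a * a' - algebraMap k L (c (a * a')) - (algebraMap k L (c a) * (a' - algebraMap k L (c a')) +
        algebraMap k L (c a') * (a - algebraMap k L (c a))) =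
        (a - algebraMap k L (c a)) * (a' - algebraMap k L (c a')) by rw [map_mul, map_mul]; ring, pow_two]
    exact Ideal.mul_mem_mul (hmem a) (hmem a')
  have e : ∀ (i : Fin g) (x : k) (v : CotangentSpace L),
      c' (b.repr (algebraMap k L x • v) (Fin.castLE hn i)) = x * c' (b.repr v (Fin.castLE hn i)) := fun i x v => by
    rw [← algebraMap_smul (ResidueField L) (algebraMap k L x) v, map_smul, Finsupp.smul_apply, smul_eq_mul, map_mul]
    exact congrArg (· * _) (hc' x)
  have e' : ∀ (i : Fin g) (x : k) (v : CotangentSpace L),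
      c' (b.repr (x • v) (Fin.castLE hn i)) = x * c' (b.repr v (Fin.castLE hn i)) := fun i x v => by
    rw [← algebraMap_smul L x v]
    exact e i x v
  have δ_const : ∀ x, δ (algebraMap k L x) = 0 := fun x => funext fun i => by simp [δ, cls_const]
  let ψ : L →ₐ[k] Tg g k :=
    { toFun := fun a => TrivSqZeroExt.inl (c a) + TrivSqZeroExt.inr (δ a)
      map_one' := by
        have h1 : δ 1 = 0 := by simpa using δ_const 1
        ext <;> simp [h1]
      map_zero' := by
        have h1 : δ 0 = 0 := by simpa using δ_const 0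
        ext <;> simp [h1]
      map_add' := fun a a' => by ext <;> simp [δ, cls_add]
      map_mul' := fun a a' => by
        ext i
        · simp
        · simp [δ, TrivSqZeroExt.snd_mul, cls_mul, e', mul_comm]
      commutes' := fun r => by ext <;> simp [δ_const, TrivSqZeroExt.algebraMap_eq_inl'] }
  refine ⟨ψ, fun a => by simp [ψ], fun i => ?_⟩
  obtain ⟨⟨t, ht⟩, ht'⟩ := (maximalIdeal L).toCotangent_surjective (b (Fin.castLE hn i))
  have hct : c t = 0 := (hm.ge ht :)
  have hcls : cls t = b (Fin.castLE hn i) := by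
    rw [← ht']
    exact congrArg _ (Subtype.ext (show t - algebraMap k L (c t) = t by simp [hct]))
  refine ⟨t, hct, funext fun j => ?_⟩
  simp only [ψ, AlgHom.coe_mk, RingHom.coe_mk, MonoidHom.coe_mk, OneHom.coe_mk, TrivSqZeroExt.snd_add,
    TrivSqZeroExt.snd_inl, TrivSqZeroExt.snd_inr, zero_add, δ, hcls, Module.Basis.repr_self, Finsupp.single_apply,
    Pi.single_apply]
  rw [apply_ite c', map_one, map_zero]
  exact if_congr ⟨fun h => (Fin.castLE_injective hn h).symm, fun h => by rw [h]⟩ rfl rfl

variable (A : Over (Spec (CommRingCat.of k))) [GrpObj A] [IsProper A.hom] [IrreducibleSpace A.left]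

/-- A first order point at the origin spanning `g` directions. -/
theorem exists_tangent_point (hg : topologicalKrullDim A.left = (g : ℕ)) :
    ∃ (V : A.left.Opens) (hV : IsAffineOpen V) (v : algSpec k (Tg g k) ⟶ A) (ψ : Γ(A.left, V) →+* Tg g k),
      Spec.map (CommRingCat.ofHom ψ) ≫ hV.fromSpec = v.left ∧ algSpecMap (fstT (k := k) g) ≫ v = 1 ∧
      ∀ w : Fin g → k, (∀ a, ∑ l, w l * (ψ a).snd l = 0) → w = 0 := by
  let e := η[A].left (closedPoint k)
  obtain ⟨V, hV, heV, -⟩ := exists_isAffineOpen_mem_and_subset (U := ⊤) (x := e) trivial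
  haveI : IsLocallyNoetherian A.left := LocallyOfFiniteType.isLocallyNoetherian A.hom
  let O := A.left.presheaf.stalk e
  obtain ⟨σ, hσ⟩ := Spec.map_surjective (hV.fromSpec ≫ A.hom)
  letI algB : Algebra k Γ(A.left, V) := σ.hom.toAlgebra
  letI : Algebra Γ(A.left, V) O := (A.left.presheaf.germ V e heV).hom.toAlgebra
  letI algO : Algebra k O := ((A.left.presheaf.germ V e heV).hom.comp σ.hom).toAlgebra
  haveI : IsScalarTower k Γ(A.left, V) O := IsScalarTower.of_algebraMap_eq fun _ => rfl
  haveI : IsLocalization.AtPrime O (hV.primeIdealOf ⟨e, heV⟩).asIdeal := hV.isLocalization_stalk ⟨e, heV⟩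
  have hfs : A.left.fromSpecStalk e = Spec.map (A.left.presheaf.germ V e heV) ≫ hV.fromSpec :=
    (hV.fromSpecStalk_eq_fromSpecStalk heV).symm
  let cT : O ⟶ CommRingCat.of k := Scheme.stalkClosedPointTo η[A].left
  have hcT : Spec.map cT ≫ A.left.fromSpecStalk e = η[A].left :=
    Scheme.Spec_stalkClosedPointTo_fromSpecStalk η[A].left
  have hsec : σ ≫ A.left.presheaf.germ V e heV ≫ cT = 𝟙 _ := by
    apply Spec.map_injective
    rw [Spec.map_comp, Spec.map_comp, Spec.map_id, hσ]
    have h1 : (Spec.map cT ≫ Spec.map (A.left.presheaf.germ V e heV)) ≫ hV.fromSpec = η[A].left := by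
      rw [Category.assoc, ← hfs, hcT]
    rw [← Category.assoc, h1]
    exact Over.w η[A]
  let c : O →ₐ[k] k :=
    { cT.hom with commutes' := fun r => congrArg (fun f : CommRingCat.of k ⟶ _ => f.hom r) hsec }
  have hcl : IsClosed ({e} : Set A.left) := by
    haveI : IsClosedImmersion η[A].left := by
      haveI : IsClosedImmersion (η[A].left ≫ A.hom) := by
        rw [Over.w η[A]]
        exact inferInstanceAs (IsClosedImmersion (𝟙 (Spec (CommRingCat.of k))))
      exact IsClosedImmersion.of_comp η[A].left A.hom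
    have := η[A].left.isClosedEmbedding.isClosed_range
    rwa [show Set.range η[A].left.base = {e} from Set.eq_singleton_iff_unique_mem.2 ⟨⟨_, rfl⟩, by
      rintro _ ⟨z, rfl⟩
      exact congrArg η[A].left (Subsingleton.elim (α := PrimeSpectrum k) _ _)⟩] at this
  have hdim : ((g : ℕ) : WithBot ℕ∞) ≤ ringKrullDim O := by
    rw [← hg, ← FibDimLib.localDim_of_irreducible A.hom e, FibDimLib.localDim_eq_stalk_of_isClosed A.hom hcl]
  obtain ⟨ψ₀, hψ₀, hspan⟩ := exists_tangent_hom c hdim
  let ψ : Γ(A.left, V) →+* Tg g k := ψ₀.toRingHom.comp (A.left.presheaf.germ V e heV).hom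
  let v : algSpec k (Tg g k) ⟶ A := Over.homMk (Spec.map (CommRingCat.ofHom ψ) ≫ hV.fromSpec) (by
    show (Spec.map _ ≫ hV.fromSpec) ≫ A.hom = Spec.map _
    rw [Category.assoc, ← hσ, ← Spec.map_comp]
    congr 1
    ext r : 2
    exact ψ₀.commutes r)
  refine ⟨V, hV, v, ψ, rfl, ?_, fun w hw => ?_⟩
  · ext1
    rw [Hom.one_def]
    show Spec.map (CommRingCat.ofHom _) ≫ Spec.map _ ≫ hV.fromSpec = Spec.map (CommRingCat.ofHom (algebraMap k k)) ≫ η[A].left
    rw [← hcT, hfs, show CommRingCat.ofHom (algebraMap k k) = 𝟙 (CommRingCat.of k) from rfl, Spec.map_id,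
      Category.id_comp, ← Spec.map_comp_assoc, ← Spec.map_comp_assoc]
    congr 2
    ext a
    exact hψ₀ _
  · funext i
    obtain ⟨a, ha0, ha⟩ := hspan i
    obtain ⟨b, s, rfl⟩ := IsLocalization.exists_mk'_eq (hV.primeIdealOf ⟨e, heV⟩).asIdeal.primeCompl a
    let s' : O := algebraMap Γ(A.left, V) O s
    have hs : c s' ≠ 0 := ((IsLocalization.map_units O s).map c).ne_zero
    have hb : ψ b = ψ₀ (IsLocalization.mk' O b s) * ψ₀ s' := by
      rw [← map_mul, IsLocalization.mk'_spec]; rfl
    have h := hw b
    rw [hb, TrivSqZeroExt.snd_mul, ha, show (ψ₀ (IsLocalization.mk' O b s)).fst = 0 from (hψ₀ _).trans ha0, hψ₀] at h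
    simp [Pi.single_apply, Finset.sum_ite_eq', mul_ite] at h
    rcases h with h | h
    · exact h
    · exact absurd h hs

end AVEmbedLib

end
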